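import Mathlib
import Groth.Agent.ColimIntPair.Main

/-!
# A surjection with nil kernel and a map to its target: filtered colimit of finitely presented such diagrams
-/

set_option autoImplicit false
set_option linter.style.haveILetI false
universe u

noncomputable section

namespace Groth.Agent.ColimNilPair

open CategoryTheory Limits MvPolynomial Groth.Agent.ColimIntPair

variable {R B D D' : Type u} [CommRing R] [CommRing B] [CommRing D] [CommRing D'] [Algebra R B] [Algebra R D]
  [Algebra R D']

/-- chosen lifts -/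
def σ (f : B →ₐ[R] D) (i : D' →ₐ[R] D) (hi : Function.Surjective i) (b : B) : D' := (hi (f b)).choose

theorem i_σ (f : B →ₐ[R] D) (i : D' →ₐ[R] D) (hi : Function.Surjective i) (b : B) : i (σ f i hi b) = f b :=
  (hi (f b)).choose_spec

/-- finitely many variables and relations -/
structure Idx (f : B →ₐ[R] D) (i : D' →ₐ[R] D) (hi : Function.Surjective i) : Type u where
  S : Finset B
  S' : Finset D'
  RB : Finset (MvPolynomial B R)
  RD : Finset (MvPolynomial D' R)
  G : Finset (MvPolynomial D' R)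
  hS : ∀ b ∈ S, σ f i hi b ∈ S'
  okB : ∀ r ∈ RB, aeval (id : B → B) r = 0
  okD : ∀ r ∈ RD, aeval (id : D' → D') r = 0
  okG : ∀ r ∈ G, i (aeval (id : D' → D') r) = 0

variable {f : B →ₐ[R] D} {i : D' →ₐ[R] D} {hi : Function.Surjective i}

theorem aeval_σ (r : MvPolynomial B R) :
    aeval (fun d : D' => i d) (rename (σ f i hi) r) = f (aeval (id : B → B) r) := by
  rw [aeval_rename, comp_aeval_apply]
  congr 2
  funext b
  exact i_σ f i hi b

namespace Idx

variable (j : Idx f i hi)

/-- relations beyond those of the covering algebra -/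
def EG : Set (MvPolynomial D' R) := ↑j.G ∪ rename (σ f i hi) '' ↑j.RB

/-- all relations of the target algebra -/
def ED : Set (MvPolynomial D' R) := ↑j.RD ∪ j.EG

theorem finite_EG : j.EG.Finite := j.G.finite_toSet.union (j.RB.finite_toSet.image _)

theorem finite_ED : j.ED.Finite := j.RD.finite_toSet.union j.finite_EG

theorem eval_ED : ∀ e ∈ j.ED, aeval (fun d : D' => i d) e = 0 := by
  rintro e (h | h | ⟨r, hr, rfl⟩)
  · have := congrArg i (j.okD e h)
    rwa [comp_aeval_apply, map_zero] at this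
  · have := j.okG e h
    rwa [comp_aeval_apply] at this
  · rw [aeval_σ, j.okB r hr, map_zero]

/-- the algebra over `B` -/
abbrev QB : Type u := Q R j.S (↑j.RB : Set (MvPolynomial B R))

/-- the algebra over `D'` -/
abbrev QD' : Type u := Q R j.S' (↑j.RD : Set (MvPolynomial D' R))

/-- the algebra over `D` -/
abbrev QD : Type u := Q R j.S' j.ED

/-- to `D` from the side of `B` -/
def φ : j.QB →ₐ[R] j.QD := trans (σ f i hi) j.hS fun e he => Or.inr (Or.inr ⟨e, he, rfl⟩)

/-- to `D` from the side of `D'` -/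
def ψ : j.QD' →ₐ[R] j.QD :=
  trans id (fun _ h => h) fun e he => by rw [rename_id, AlgHom.id_apply]; exact Or.inl he

/-- to `B` -/
def toB : j.QB →ₐ[R] B := toPt id j.okB

/-- to `D'` -/
def toD' : j.QD' →ₐ[R] D' := toPt id j.okD

/-- to `D` -/
def toD : j.QD →ₐ[R] D := toPt (fun d : D' => i d) j.eval_ED

theorem toD_φ : j.toD.comp j.φ = f.comp j.toB := ColimIntPair.algHom_ext fun v => by
  simp only [AlgHom.comp_apply, φ, toD, toB, trans_X, toPt_X, i_σ, id_eq]

theorem toD_ψ : j.toD.comp j.ψ = i.comp j.toD' := ColimIntPair.algHom_ext fun v => by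
  simp only [AlgHom.comp_apply, ψ, toD, toD', trans_X, toPt_X, id_eq]

theorem ψ_surjective : Function.Surjective j.ψ := fun y => by
  obtain ⟨p, rfl⟩ := qmk_surjective R j.S' j.ED y
  refine ⟨qmk R j.S' _ p, ?_⟩
  show trans _ _ _ _ = _
  rw [trans_qmk]
  exact congrArg _ (rename_id_apply p)

instance : LE (Idx f i hi) :=
  ⟨fun j k => j.S ⊆ k.S ∧ j.S' ⊆ k.S' ∧ j.RB ⊆ k.RB ∧ j.RD ⊆ k.RD ∧ j.G ⊆ k.G⟩

instance : Preorder (Idx f i hi) where
  le_refl _ := ⟨subset_rfl, subset_rfl, subset_rfl, subset_rfl, subset_rfl⟩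
  le_trans _ _ _ h g := ⟨h.1.trans g.1, h.2.1.trans g.2.1, h.2.2.1.trans g.2.2.1, h.2.2.2.1.trans g.2.2.2.1,
    h.2.2.2.2.trans g.2.2.2.2⟩

theorem ED_mono {j k : Idx f i hi} (h : j ≤ k) : j.ED ⊆ k.ED :=
  Set.union_subset_union h.2.2.2.1 (Set.union_subset_union h.2.2.2.2 (Set.image_mono h.2.2.1))

/-- transition maps -/
def transB {j k : Idx f i hi} (h : j ≤ k) : j.QB →ₐ[R] k.QB :=
  trans id (fun _ hv => h.1 hv) fun e he => by rw [rename_id, AlgHom.id_apply]; exact h.2.2.1 he

/-- transition maps -/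
def transD' {j k : Idx f i hi} (h : j ≤ k) : j.QD' →ₐ[R] k.QD' :=
  trans id (fun _ hv => h.2.1 hv) fun e he => by rw [rename_id, AlgHom.id_apply]; exact h.2.2.2.1 he

/-- transition maps -/
def transD {j k : Idx f i hi} (h : j ≤ k) : j.QD →ₐ[R] k.QD :=
  trans id (fun _ hv => h.2.1 hv) fun e he => by rw [rename_id, AlgHom.id_apply]; exact ED_mono h he

/-- the properties required of a stage -/
structure Good : Prop where
  nilψ : (∀ x ∈ RingHom.ker i.toRingHom, IsNilpotent x) → ∀ x, j.ψ x = 0 → IsNilpotent x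
  surjφ : Function.Surjective f → Function.Surjective j.φ
  nilφ : Function.Surjective f → (∀ x ∈ RingHom.ker f.toRingHom, IsNilpotent x) →
    ∀ x, j.φ x = 0 → IsNilpotent x
  intφ : f.toRingHom.IsIntegral → j.φ.toRingHom.IsIntegral

theorem qmk_X_σ {b : B} (hb : b ∈ j.S) :
    qmk R j.S' j.ED (X ⟨σ f i hi b, j.hS b hb⟩) =
      j.φ (qmk R j.S (↑j.RB : Set (MvPolynomial B R)) (X ⟨b, hb⟩)) := by
  rw [φ, trans_X]

/-- a criterion for surjectivity -/
theorem φ_surjective_of (h : ∀ d ∈ j.S', ∃ b ∈ j.S, d = σ f i hi b ∨ X d - X (σ f i hi b) ∈ j.G) :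
    Function.Surjective j.φ := fun y => by
  obtain ⟨p, rfl⟩ := qmk_surjective R j.S' j.ED y
  induction p using MvPolynomial.induction_on with
  | C a => exact ⟨algebraMap R _ a, by rw [AlgHom.commutes, ← algebraMap_eq, AlgHom.commutes]⟩
  | add p q hp hq =>
    obtain ⟨a, ha⟩ := hp
    obtain ⟨b, hb⟩ := hq
    exact ⟨a + b, by rw [map_add, map_add, ha, hb]⟩
  | mul_X p v hp =>
    obtain ⟨a, ha⟩ := hp
    obtain ⟨b, hb, hb'⟩ := h v v.2
    refine ⟨a * qmk R j.S _ (X ⟨b, hb⟩), ?_⟩
    rw [map_mul, map_mul, ha, ← j.qmk_X_σ hb]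
    congr 1
    rcases hb' with e | e
    · exact congrArg (fun w => qmk R j.S' j.ED (X w)) (Subtype.ext e.symm)
    · rw [eq_comm, ← sub_eq_zero, ← map_sub, qmk_eq_zero]
      refine Ideal.subset_span (Or.inr (Or.inl ?_))
      show rename Subtype.val _ ∈ j.G
      rwa [map_sub, rename_X, rename_X]

/-- the polynomial relation expressing integrality over `B` -/
def intRel (p : Polynomial B) (d : D') : MvPolynomial D' R :=
  X d ^ p.natDegree + ∑ k ∈ Finset.range p.natDegree, X (σ f i hi (p.coeff k)) * X d ^ k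

/-- a criterion for integrality -/
theorem φ_isIntegral_of (h : ∀ d ∈ j.S', (∃ b ∈ j.S, d = σ f i hi b) ∨
    ∃ p : Polynomial B, (∀ k < p.natDegree, p.coeff k ∈ j.S) ∧ intRel (f := f) (i := i) (hi := hi) p d ∈ j.G) :
    j.φ.toRingHom.IsIntegral := fun y => by
  obtain ⟨p, rfl⟩ := qmk_surjective R j.S' j.ED y
  induction p using MvPolynomial.induction_on with
  | C a =>
    rw [← algebraMap_eq, AlgHom.commutes, ← j.φ.commutes]
    exact RingHom.isIntegralElem_map _
  | add p q hp hq => rw [map_add]; exact RingHom.IsIntegralElem.add _ hp hq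
  | mul_X p v hp =>
    rw [map_mul]
    refine RingHom.IsIntegralElem.mul _ hp ?_
    rcases h v v.2 with ⟨b, hb, e⟩ | ⟨q, hq, hqG⟩
    · rw [show v = ⟨σ f i hi b, j.hS b hb⟩ from Subtype.ext e, j.qmk_X_σ hb]
      exact RingHom.isIntegralElem_map _
    · let low : Polynomial j.QB := ∑ k : Fin q.natDegree,
        Polynomial.monomial (k : ℕ) (qmk R j.S _ (X ⟨q.coeff k, hq k k.2⟩))
      have hlow : low.degree < q.natDegree := by
        refine lt_of_le_of_lt (Polynomial.degree_sum_le _ _) ((Finset.sup_lt_iff (WithBot.bot_lt_coe _)).2 fun k _ => ?_)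
        exact lt_of_le_of_lt (Polynomial.degree_monomial_le _ _) (WithBot.coe_lt_coe.2 k.2)
      refine ⟨Polynomial.X ^ q.natDegree + low, Polynomial.monic_X_pow_add hlow, ?_⟩
      rw [Polynomial.eval₂_add, Polynomial.eval₂_X_pow, Polynomial.eval₂_finsetSum]
      simp only [Polynomial.eval₂_monomial, AlgHom.toRingHom_eq_coe, RingHom.coe_coe, ← j.qmk_X_σ, ← map_pow,
        ← map_mul, ← map_sum, ← map_add]
      rw [qmk_eq_zero]
      refine Ideal.subset_span (Or.inr (Or.inl ?_))
      show rename Subtype.val _ ∈ j.G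
      simp only [map_add, map_pow, map_sum, map_mul, rename_X]
      rwa [intRel, ← Fin.sum_univ_eq_sum_range (fun k => X (σ f i hi (q.coeff k)) * X v.1 ^ k)] at hqG

theorem exists_good_ge : ∃ k, j ≤ k ∧ k.Good := by
  classical
  -- a preimage in `B`, a monic equation over `B`
  let pre : D' → B := fun d => if h : Function.Surjective f then (h (i d)).choose else 0
  have hpre : Function.Surjective f → ∀ d, f (pre d) = i d := fun h d => by
    simp only [pre, dif_pos h]; exact (h (i d)).choose_spec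
  let eqn : D' → Polynomial B := fun d => if h : f.toRingHom.IsIntegral then (h (i d)).choose else 0
  have heqn : f.toRingHom.IsIntegral → ∀ d, (eqn d).Monic ∧ Polynomial.eval₂ f.toRingHom (i d) (eqn d) = 0 :=
    fun h d => by simp only [eqn, dif_pos h]; exact (h (i d)).choose_spec
  let S₁ : Finset B := j.S ∪ j.S'.image pre ∪ j.S'.biUnion fun d => (Finset.range (eqn d).natDegree).image (eqn d).coeff
  let G₁ : Finset (MvPolynomial D' R) := j.G ∪
    (if Function.Surjective f then j.S'.image fun d => X d - X (σ f i hi (pre d)) else ∅) ∪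
    (if f.toRingHom.IsIntegral then j.S'.image fun d => intRel (f := f) (i := i) (hi := hi) (eqn d) d else ∅)
  let j₁ : Idx f i hi := ⟨S₁, j.S' ∪ S₁.image (σ f i hi), j.RB, j.RD, G₁,
    fun b hb => Finset.mem_union_right _ (Finset.mem_image_of_mem _ hb), j.okB, j.okD, fun r hr => by
      rcases Finset.mem_union.1 hr with hr | hr
      · rcases Finset.mem_union.1 hr with hr | hr
        · exact j.okG r hr
        · split_ifs at hr with h
          · obtain ⟨d, -, rfl⟩ := Finset.mem_image.1 hr
            rw [map_sub, aeval_X, aeval_X, map_sub, id_eq, id_eq, i_σ, hpre h, sub_self]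
          · exact absurd hr (Finset.notMem_empty r)
      · split_ifs at hr with h
        · obtain ⟨d, -, rfl⟩ := Finset.mem_image.1 hr
          obtain ⟨hm, he⟩ := heqn h d
          rw [Polynomial.eval₂_eq_sum_range, Finset.sum_range_succ, hm.coeff_natDegree, map_one, _root_.one_mul,
            add_comm] at he
          simp only [intRel, map_add, map_pow, map_sum, map_mul, aeval_X, id_eq, i_σ]
          exact he
        · exact absurd hr (Finset.notMem_empty r)⟩
  have hj₁ : j ≤ j₁ := ⟨Finset.subset_union_left.trans Finset.subset_union_left, Finset.subset_union_left,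
    subset_rfl, subset_rfl, Finset.subset_union_left.trans Finset.subset_union_left⟩
  have eS' : j₁.S' = j.S' ∪ S₁.image (σ f i hi) := rfl
  have hsurj : ∀ k : Idx f i hi, k.S' = j₁.S' → j₁.S ⊆ k.S → j₁.G ⊆ k.G → Function.Surjective f →
      Function.Surjective k.φ := fun k e1 e2 e3 h => k.φ_surjective_of fun d hd => by
    rcases Finset.mem_union.1 ((e1.trans eS') ▸ hd : d ∈ j.S' ∪ S₁.image (σ f i hi)) with hd | hd
    · refine ⟨pre d, e2 (Finset.mem_union_left _ (Finset.mem_union_right _ (Finset.mem_image_of_mem _ hd))),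
        Or.inr (e3 (Finset.mem_union_left _ (Finset.mem_union_right _ ?_)))⟩
      rw [if_pos h]
      exact Finset.mem_image.2 ⟨d, hd, rfl⟩
    · obtain ⟨b, hb, rfl⟩ := Finset.mem_image.1 hd
      exact ⟨b, e2 hb, Or.inl rfl⟩
  have hint : ∀ k : Idx f i hi, k.S' = j₁.S' → j₁.S ⊆ k.S → j₁.G ⊆ k.G → f.toRingHom.IsIntegral →
      k.φ.toRingHom.IsIntegral := fun k e1 e2 e3 h => k.φ_isIntegral_of fun d hd => by
    rcases Finset.mem_union.1 ((e1.trans eS') ▸ hd : d ∈ j.S' ∪ S₁.image (σ f i hi)) with hd | hd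
    · refine Or.inr ⟨eqn d, fun m hm => e2 (Finset.mem_union_right _ (Finset.mem_biUnion.2
        ⟨d, hd, Finset.mem_image.2 ⟨m, Finset.mem_range.2 hm, rfl⟩⟩)), e3 (Finset.mem_union_right _ ?_)⟩
      rw [if_pos h]
      exact Finset.mem_image.2 ⟨d, hd, rfl⟩
    · obtain ⟨b, hb, rfl⟩ := Finset.mem_image.1 hd
      exact Or.inl ⟨b, e2 hb, rfl⟩
  clear_value j₁
  -- nilpotent powers for the relations of `D` and for the kernel of `φ`
  obtain ⟨hfinG, -⟩ : (supp R j₁.S' j₁.EG).Finite ∧ True := ⟨supp_finite j₁.finite_EG, trivial⟩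
  let powD : MvPolynomial j₁.S' R → MvPolynomial D' R := fun g =>
    if h : IsNilpotent (aeval (id : D' → D') (rename Subtype.val g)) then rename Subtype.val (g ^ (h.choose + 1)) else 0
  obtain ⟨gens, hgens⟩ : ∃ T : Finset (MvPolynomial j₁.S R),
      Function.Surjective f → RingHom.ker j₁.φ = Ideal.span (qmk R j₁.S _ '' ↑T) ∧
        ∀ p ∈ T, j₁.φ (qmk R j₁.S _ p) = 0 := by
    by_cases h : Function.Surjective f
    · haveI := finitePresentation (A := R) (S := j₁.S) j₁.RB.finite_toSet
      haveI := finitePresentation (A := R) (S := j₁.S') j₁.finite_ED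
      obtain ⟨T₀, hT₀⟩ := Algebra.FinitePresentation.ker_fG_of_surjective j₁.φ (hsurj j₁ rfl subset_rfl subset_rfl h)
      choose l hl using fun y : j₁.QB => qmk_surjective R j₁.S _ y
      refine ⟨T₀.image l, fun _ => ⟨?_, fun p hp => ?_⟩⟩
      · rw [Finset.coe_image, Set.image_image]
        simp only [hl, Set.image_id']
        exact hT₀.symm
      · obtain ⟨y, hy, rfl⟩ := Finset.mem_image.1 hp
        rw [hl, ← RingHom.mem_ker]
        exact hT₀.le (Ideal.subset_span hy)
    · exact ⟨∅, fun h' => absurd h' h⟩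
  let good : MvPolynomial j₁.S R → Prop := fun p =>
    j₁.φ (qmk R j₁.S _ p) = 0 ∧ IsNilpotent (aeval (id : B → B) (rename Subtype.val p))
  let powB : MvPolynomial j₁.S R → MvPolynomial B R := fun p =>
    if h : good p then rename Subtype.val (p ^ (h.2.choose + 1)) else 0
  let k : Idx f i hi := ⟨j₁.S, j₁.S', j₁.RB ∪ gens.image powB, j₁.RD ∪ hfinG.toFinset.image powD, j₁.G, j₁.hS,
    fun r hr => (Finset.mem_union.1 hr).elim (j₁.okB r) fun hr => by
      obtain ⟨p, -, rfl⟩ := Finset.mem_image.1 hr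
      simp only [powB]
      split_ifs with h
      · rw [map_pow, map_pow, pow_succ, h.2.choose_spec, zero_mul]
      · rw [map_zero],
    fun r hr => (Finset.mem_union.1 hr).elim (j₁.okD r) fun hr => by
      obtain ⟨p, -, rfl⟩ := Finset.mem_image.1 hr
      simp only [powD]
      split_ifs with h
      · rw [map_pow, map_pow, pow_succ, h.choose_spec, zero_mul]
      · rw [map_zero], j₁.okG⟩
  have hk : j₁ ≤ k := ⟨subset_rfl, subset_rfl, Finset.subset_union_left, Finset.subset_union_left, subset_rfl⟩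
  have hrel : rel R k.S' k.ED ≤ rel R j₁.S' j₁.ED := by
    refine Ideal.span_le.2 fun q hq => ?_
    rcases hq with hq | hq | ⟨r, hr, hq⟩
    · rcases Finset.mem_union.1 hq with hq | hq
      · exact Ideal.subset_span (Or.inl hq)
      obtain ⟨g, hg, e⟩ := Finset.mem_image.1 hq
      simp only [powD] at e
      split_ifs at e
      · rw [← rename_injective _ Subtype.val_injective e, pow_succ]
        exact Ideal.mul_mem_left _ _ (Ideal.subset_span (Or.inr ((hfinG.mem_toFinset).1 hg)))
      · rw [← map_zero (rename Subtype.val)] at e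
        rw [← rename_injective _ Subtype.val_injective e]
        exact zero_mem _
    · exact Ideal.subset_span (Or.inr (Or.inl hq))
    · rcases Finset.mem_union.1 hr with hr | hr
      · exact Ideal.subset_span (Or.inr (Or.inr ⟨r, hr, hq⟩))
      obtain ⟨p, hp, rfl⟩ := Finset.mem_image.1 hr
      simp only [powB] at hq
      split_ifs at hq with h
      · have e : q = rename (fun v : j₁.S => (⟨σ f i hi v.1, j₁.hS v.1 v.2⟩ : j₁.S')) (p ^ (h.2.choose + 1)) := by
          refine rename_injective _ Subtype.val_injective (hq.symm.trans ?_)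
          rw [rename_rename, rename_rename]; rfl
        rw [e, SetLike.mem_coe, ← qmk_eq_zero, ← trans_qmk (E := (↑j₁.RB : Set (MvPolynomial B R))) (σ f i hi) j₁.hS
          (fun e he => Or.inr (Or.inr ⟨e, he, rfl⟩)), map_pow]
        show j₁.φ (_ ^ _) = 0
        rw [map_pow]
        exact (congrArg (· ^ _) h.1).trans (zero_pow (Nat.succ_ne_zero _))
      · rw [map_zero] at hq
        rw [show q = 0 from rename_injective _ Subtype.val_injective (hq.symm.trans (map_zero _).symm)]
        exact zero_mem _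
  refine ⟨k, hj₁.trans hk, ⟨fun hn x hx => ?_, hsurj k rfl subset_rfl subset_rfl,
    fun h hn x hx => ?_, hint k rfl subset_rfl subset_rfl⟩⟩
  · obtain ⟨p, rfl⟩ := qmk_surjective R k.S' _ x
    have hp : p ∈ rel R j₁.S' j₁.ED := hrel (by
      have := qmk_eq_zero.1 (((trans_qmk _ _ _ p).symm.trans hx))
      rwa [show (fun v : k.S' => (⟨id v.1, v.2⟩ : k.S')) = id from rfl, rename_id, AlgHom.id_apply] at this)
    refine (show rel R j₁.S' j₁.ED ≤ Ideal.comap (qmk R k.S' (↑k.RD : Set (MvPolynomial D' R))) (nilradical _) from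
      Ideal.span_le.2 fun g hg => ?_) hp
    rcases hg with hg | hg
    · show IsNilpotent _
      rw [qmk_eq_zero.2 (Ideal.subset_span (Finset.mem_union_left _ hg))]
      exact IsNilpotent.zero
    · have h0 : IsNilpotent (aeval (id : D' → D') (rename Subtype.val g)) := hn _ (by
        have := j₁.eval_ED _ (Or.inr hg)
        rw [RingHom.mem_ker]
        show i _ = 0
        rw [comp_aeval_apply]
        exact this)
      refine ⟨h0.choose + 1, ?_⟩
      show _ = 0
      rw [← map_pow, qmk_eq_zero]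
      refine Ideal.subset_span (Finset.mem_union_right _ (Finset.mem_image.2 ⟨g, hfinG.mem_toFinset.2 hg, ?_⟩))
      exact dif_pos h0
  · obtain ⟨p, rfl⟩ := qmk_surjective R k.S _ x
    have hp : qmk R j₁.S (↑j₁.RB : Set (MvPolynomial B R)) p ∈ RingHom.ker j₁.φ := by
      rw [RingHom.mem_ker]
      exact qmk_eq_zero.2 (hrel (qmk_eq_zero.1 hx))
    obtain ⟨hg, hg'⟩ := hgens h
    rw [hg] at hp
    have hle : Ideal.span (qmk R j₁.S _ '' (↑gens : Set (MvPolynomial j₁.S R))) ≤
        Ideal.comap (transB hk) (nilradical k.QB) := by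
      refine Ideal.span_le.2 ?_
      rintro _ ⟨q, hq, rfl⟩
      have h0 : good q := ⟨hg' q hq, by
        refine hn _ ?_
        rw [RingHom.mem_ker]
        show f _ = 0
        have := AlgHom.congr_fun j₁.toD_φ (qmk R j₁.S _ q)
        rw [AlgHom.comp_apply, AlgHom.comp_apply, hg' q hq, map_zero] at this
        rw [aeval_rename]
        exact this.symm⟩
      refine ⟨h0.2.choose + 1, ?_⟩
      show _ = 0
      rw [← map_pow, ← map_pow]
      show trans _ _ _ _ = 0
      rw [trans_qmk, qmk_eq_zero]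
      refine Ideal.subset_span (Finset.mem_union_right _ (Finset.mem_image.2 ⟨q, hq, ?_⟩))
      simp only [powB, dif_pos h0]
      exact congrArg _ (rename_id_apply _).symm
    have := hle hp
    rw [Ideal.mem_comap, mem_nilradical] at this
    convert this using 1
    show _ = trans _ _ _ _
    rw [trans_qmk]
    exact congrArg _ (rename_id_apply p).symm

end Idx

variable (f i hi)

/-- the index category -/
def Ix : Type u := {j : Idx f i hi // j.Good}

instance : Preorder (Ix f i hi) := inferInstanceAs (Preorder {j : Idx f i hi // j.Good})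

theorem Ix.exists_ge (j : Idx f i hi) : ∃ k : Ix f i hi, j ≤ k.1 := by
  obtain ⟨k, h, hk⟩ := j.exists_good_ge
  exact ⟨⟨k, hk⟩, h⟩

instance : Nonempty (Ix f i hi) :=
  ⟨(Ix.exists_ge f i hi ⟨∅, ∅, ∅, ∅, ∅, by simp, by simp, by simp, by simp⟩).choose⟩

instance : IsDirectedOrder (Ix f i hi) := ⟨fun a b => by
  classical
  obtain ⟨k, hk⟩ := Ix.exists_ge f i hi ⟨a.1.S ∪ b.1.S, a.1.S' ∪ b.1.S', a.1.RB ∪ b.1.RB, a.1.RD ∪ b.1.RD,
    a.1.G ∪ b.1.G, fun x hx => (Finset.mem_union.1 hx).elim (fun h => Finset.mem_union_left _ (a.1.hS x h))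
      (fun h => Finset.mem_union_right _ (b.1.hS x h)),
    fun e he => (Finset.mem_union.1 he).elim (a.1.okB e) (b.1.okB e),
    fun e he => (Finset.mem_union.1 he).elim (a.1.okD e) (b.1.okD e),
    fun e he => (Finset.mem_union.1 he).elim (a.1.okG e) (b.1.okG e)⟩
  exact ⟨k, ⟨Finset.subset_union_left.trans hk.1, Finset.subset_union_left.trans hk.2.1,
    Finset.subset_union_left.trans hk.2.2.1, Finset.subset_union_left.trans hk.2.2.2.1,
    Finset.subset_union_left.trans hk.2.2.2.2⟩,
    ⟨Finset.subset_union_right.trans hk.1, Finset.subset_union_right.trans hk.2.1,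
    Finset.subset_union_right.trans hk.2.2.1, Finset.subset_union_right.trans hk.2.2.2.1,
    Finset.subset_union_right.trans hk.2.2.2.2⟩⟩⟩

end Groth.Agent.ColimNilPair
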