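import Mathlib
import Groth.Agent.ColimNilPair.Main

/-!
# The diagrams of the filtered colimit
-/

set_option autoImplicit false
set_option linter.style.haveILetI false
universe u

noncomputable section

namespace Groth.Agent.ColimNilPair

open CategoryTheory Limits MvPolynomial Groth.Agent.ColimIntPair

variable {R B D D' : Type u} [CommRing R] [CommRing B] [CommRing D] [CommRing D'] [Algebra R B] [Algebra R D]
  [Algebra R D'] (f : B →ₐ[R] D) (i : D' →ₐ[R] D) (hi : Function.Surjective i)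

namespace Idx

variable {f i hi} {j k l : Idx f i hi}

theorem transB_refl : transB (le_refl j) = AlgHom.id R j.QB := ColimIntPair.algHom_ext fun x => trans_X _ _ _ _

theorem transD'_refl : transD' (le_refl j) = AlgHom.id R j.QD' := ColimIntPair.algHom_ext fun x => trans_X _ _ _ _

theorem transD_refl : transD (le_refl j) = AlgHom.id R j.QD := ColimIntPair.algHom_ext fun x => trans_X _ _ _ _

theorem transB_trans (h : j ≤ k) (g : k ≤ l) : transB (h.trans g) = (transB g).comp (transB h) :=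
  ColimIntPair.algHom_ext fun x => by simp only [AlgHom.comp_apply, transB, trans_X, id_eq]

theorem transD'_trans (h : j ≤ k) (g : k ≤ l) : transD' (h.trans g) = (transD' g).comp (transD' h) :=
  ColimIntPair.algHom_ext fun x => by simp only [AlgHom.comp_apply, transD', trans_X, id_eq]

theorem transD_trans (h : j ≤ k) (g : k ≤ l) : transD (h.trans g) = (transD g).comp (transD h) :=
  ColimIntPair.algHom_ext fun x => by simp only [AlgHom.comp_apply, transD, trans_X, id_eq]

theorem φ_nat (h : j ≤ k) : k.φ.comp (transB h) = (transD h).comp j.φ :=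
  ColimIntPair.algHom_ext fun x => by simp only [AlgHom.comp_apply, transB, transD, φ, trans_X, id_eq]

theorem ψ_nat (h : j ≤ k) : k.ψ.comp (transD' h) = (transD h).comp j.ψ :=
  ColimIntPair.algHom_ext fun x => by simp only [AlgHom.comp_apply, transD', transD, ψ, trans_X, id_eq]

theorem toB_nat (h : j ≤ k) : k.toB.comp (transB h) = j.toB :=
  ColimIntPair.algHom_ext fun x => by simp only [AlgHom.comp_apply, transB, toB, trans_X, toPt_X, id_eq]

theorem toD'_nat (h : j ≤ k) : k.toD'.comp (transD' h) = j.toD' :=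
  ColimIntPair.algHom_ext fun x => by simp only [AlgHom.comp_apply, transD', toD', trans_X, toPt_X, id_eq]

theorem toD_nat (h : j ≤ k) : k.toD.comp (transD h) = j.toD :=
  ColimIntPair.algHom_ext fun x => by simp only [AlgHom.comp_apply, transD, toD, trans_X, toPt_X, id_eq]

/-- the fibre product -/
def eqz (j : Idx f i hi) : Subalgebra R (j.QB × j.QD') :=
  AlgHom.equalizer (j.φ.comp (AlgHom.fst R _ _)) (j.ψ.comp (AlgHom.snd R _ _))

theorem mem_eqz {z : j.QB × j.QD'} : z ∈ j.eqz ↔ j.φ z.1 = j.ψ z.2 := Iff.rfl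

/-- transition maps of the fibre products -/
def transP (h : j ≤ k) : j.eqz →ₐ[R] k.eqz :=
  (((transB h).comp (AlgHom.fst R _ _)).prod ((transD' h).comp (AlgHom.snd R _ _)) |>.comp j.eqz.val).codRestrict
    k.eqz fun z => mem_eqz.2 (by
      show k.φ (transB h z.1.1) = k.ψ (transD' h z.1.2)
      have e1 := AlgHom.congr_fun (φ_nat h) z.1.1
      have e2 := AlgHom.congr_fun (ψ_nat h) z.1.2
      simp only [AlgHom.comp_apply] at e1 e2
      rw [e1, e2, mem_eqz.1 z.2])

end Idx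

/-- algebras over `B` -/
def DB : Ix f i hi ⥤ Under (CommRingCat.of R) where
  obj j := CommRingCat.mkUnder (CommRingCat.of R) j.1.QB
  map {j k} g := (Idx.transB (leOfHom g : j.1 ≤ k.1)).toUnder
  map_id j := by
    ext a; exact AlgHom.congr_fun Idx.transB_refl a
  map_comp {j k l} g g' := by
    ext a; exact AlgHom.congr_fun (Idx.transB_trans (leOfHom g : j.1 ≤ k.1) (leOfHom g' : k.1 ≤ l.1)) a

/-- algebras over `D'` -/
def DD' : Ix f i hi ⥤ Under (CommRingCat.of R) where
  obj j := CommRingCat.mkUnder (CommRingCat.of R) j.1.QD'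
  map {j k} g := (Idx.transD' (leOfHom g : j.1 ≤ k.1)).toUnder
  map_id j := by
    ext a; exact AlgHom.congr_fun Idx.transD'_refl a
  map_comp {j k l} g g' := by
    ext a; exact AlgHom.congr_fun (Idx.transD'_trans (leOfHom g : j.1 ≤ k.1) (leOfHom g' : k.1 ≤ l.1)) a

/-- algebras over `D` -/
def DD : Ix f i hi ⥤ Under (CommRingCat.of R) where
  obj j := CommRingCat.mkUnder (CommRingCat.of R) j.1.QD
  map {j k} g := (Idx.transD (leOfHom g : j.1 ≤ k.1)).toUnder
  map_id j := by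
    ext a; exact AlgHom.congr_fun Idx.transD_refl a
  map_comp {j k l} g g' := by
    ext a; exact AlgHom.congr_fun (Idx.transD_trans (leOfHom g : j.1 ≤ k.1) (leOfHom g' : k.1 ≤ l.1)) a

/-- fibre products -/
def DP : Ix f i hi ⥤ Under (CommRingCat.of R) where
  obj j := CommRingCat.mkUnder (CommRingCat.of R) j.1.eqz
  map {j k} g := (Idx.transP (leOfHom g : j.1 ≤ k.1)).toUnder
  map_id j := by
    ext a
    exact Subtype.ext (Prod.ext (AlgHom.congr_fun Idx.transB_refl a.1.1) (AlgHom.congr_fun Idx.transD'_refl a.1.2))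
  map_comp {j k l} g g' := by
    ext a
    exact Subtype.ext (Prod.ext
      (AlgHom.congr_fun (Idx.transB_trans (leOfHom g : j.1 ≤ k.1) (leOfHom g' : k.1 ≤ l.1)) a.1.1)
      (AlgHom.congr_fun (Idx.transD'_trans (leOfHom g : j.1 ≤ k.1) (leOfHom g' : k.1 ≤ l.1)) a.1.2))

/-- `B_j ⟶ D_j` -/
def φD : DB f i hi ⟶ DD f i hi where
  app j := j.1.φ.toUnder
  naturality j k g := by
    ext a; exact AlgHom.congr_fun (Idx.φ_nat (leOfHom g : j.1 ≤ k.1)) a

/-- `D'_j ⟶ D_j` -/
def ψD : DD' f i hi ⟶ DD f i hi where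
  app j := j.1.ψ.toUnder
  naturality j k g := by
    ext a; exact AlgHom.congr_fun (Idx.ψ_nat (leOfHom g : j.1 ≤ k.1)) a

/-- first projection -/
def π₁ : DP f i hi ⟶ DB f i hi where
  app j := ((AlgHom.fst R _ _).comp j.1.eqz.val).toUnder
  naturality j k g := by ext a; rfl

/-- second projection -/
def π₂ : DP f i hi ⟶ DD' f i hi where
  app j := ((AlgHom.snd R _ _).comp j.1.eqz.val).toUnder
  naturality j k g := by ext a; rfl

/-- cocone -/
def cB : DB f i hi ⟶ (Functor.const _).obj (CommRingCat.mkUnder (CommRingCat.of R) B) where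
  app j := j.1.toB.toUnder
  naturality j k g := by
    ext a; exact AlgHom.congr_fun (Idx.toB_nat (leOfHom g : j.1 ≤ k.1)) a

/-- cocone -/
def cD' : DD' f i hi ⟶ (Functor.const _).obj (CommRingCat.mkUnder (CommRingCat.of R) D') where
  app j := j.1.toD'.toUnder
  naturality j k g := by
    ext a; exact AlgHom.congr_fun (Idx.toD'_nat (leOfHom g : j.1 ≤ k.1)) a

/-- cocone -/
def cD : DD f i hi ⟶ (Functor.const _).obj (CommRingCat.mkUnder (CommRingCat.of R) D) where
  app j := j.1.toD.toUnder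
  naturality j k g := by
    ext a; exact AlgHom.congr_fun (Idx.toD_nat (leOfHom g : j.1 ≤ k.1)) a

variable {f i hi}

/-- every pair is reached at some stage -/
theorem exists_reach (j₀ : Ix f i hi) (b : B) (d : D') :
    ∃ (k : Ix f i hi) (y : k.1.QB) (z : k.1.QD'), j₀.1 ≤ k.1 ∧ k.1.toB y = b ∧ k.1.toD' z = d := by
  classical
  obtain ⟨k, hk⟩ := Ix.exists_ge f i hi ⟨insert b j₀.1.S, insert d (insert (σ f i hi b) j₀.1.S'), j₀.1.RB, j₀.1.RD,
    j₀.1.G, fun x hx => Finset.mem_insert_of_mem ((Finset.mem_insert.1 hx).elim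
      (fun h => h ▸ Finset.mem_insert_self _ _) (fun h => Finset.mem_insert_of_mem (j₀.1.hS x h))),
    j₀.1.okB, j₀.1.okD, j₀.1.okG⟩
  exact ⟨k, qmk R k.1.S _ (X ⟨b, hk.1 (Finset.mem_insert_self _ _)⟩),
    qmk R k.1.S' _ (X ⟨d, hk.2.1 (Finset.mem_insert_self _ _)⟩),
    ⟨(Finset.subset_insert _ _).trans hk.1, ((Finset.subset_insert _ _).trans (Finset.subset_insert _ _)).trans hk.2.1,
      hk.2.2.1, hk.2.2.2.1, hk.2.2.2.2⟩,
    toPt_X _ k.1.okB _, toPt_X _ k.1.okD _⟩

theorem exists_killB {j : Ix f i hi} {y : j.1.QB} (hy : j.1.toB y = 0) :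
    ∃ (k : Ix f i hi) (h : j.1 ≤ k.1), Idx.transB h y = 0 := by
  classical
  obtain ⟨p, rfl⟩ := qmk_surjective R j.1.S _ y
  obtain ⟨k, hk⟩ := Ix.exists_ge f i hi ⟨j.1.S, j.1.S', insert (rename Subtype.val p) j.1.RB, j.1.RD, j.1.G, j.1.hS,
    fun e he => (Finset.mem_insert.1 he).elim (fun h => h ▸ (by rw [aeval_rename]; exact hy)) (j.1.okB e),
    j.1.okD, j.1.okG⟩
  have h : j.1 ≤ k.1 := ⟨hk.1, hk.2.1, (Finset.subset_insert _ _).trans hk.2.2.1, hk.2.2.2.1, hk.2.2.2.2⟩
  refine ⟨k, h, qmk_eq_zero.2 (Ideal.subset_span ?_)⟩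
  show rename Subtype.val (rename _ p) ∈ k.1.RB
  rw [rename_rename]
  exact hk.2.2.1 (Finset.mem_insert_self _ _)

theorem exists_killD' {j : Ix f i hi} {y : j.1.QD'} (hy : j.1.toD' y = 0) :
    ∃ (k : Ix f i hi) (h : j.1 ≤ k.1), Idx.transD' h y = 0 := by
  classical
  obtain ⟨p, rfl⟩ := qmk_surjective R j.1.S' _ y
  obtain ⟨k, hk⟩ := Ix.exists_ge f i hi ⟨j.1.S, j.1.S', j.1.RB, insert (rename Subtype.val p) j.1.RD, j.1.G, j.1.hS,
    j.1.okB, fun e he => (Finset.mem_insert.1 he).elim (fun h => h ▸ (by rw [aeval_rename]; exact hy)) (j.1.okD e),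
    j.1.okG⟩
  have h : j.1 ≤ k.1 := ⟨hk.1, hk.2.1, hk.2.2.1, (Finset.subset_insert _ _).trans hk.2.2.2.1, hk.2.2.2.2⟩
  refine ⟨k, h, qmk_eq_zero.2 (Ideal.subset_span ?_)⟩
  show rename Subtype.val (rename _ p) ∈ k.1.RD
  rw [rename_rename]
  exact hk.2.2.2.1 (Finset.mem_insert_self _ _)

theorem exists_killD {j : Ix f i hi} {y : j.1.QD} (hy : j.1.toD y = 0) :
    ∃ (k : Ix f i hi) (h : j.1 ≤ k.1), Idx.transD h y = 0 := by
  classical
  obtain ⟨p, rfl⟩ := qmk_surjective R j.1.S' _ y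
  have hp : i (aeval (id : D' → D') (rename Subtype.val p)) = 0 := by
    rw [aeval_rename, comp_aeval_apply]
    exact hy
  obtain ⟨k, hk⟩ := Ix.exists_ge f i hi ⟨j.1.S, j.1.S', j.1.RB, j.1.RD, insert (rename Subtype.val p) j.1.G, j.1.hS,
    j.1.okB, j.1.okD, fun e he => (Finset.mem_insert.1 he).elim (fun h => h ▸ hp) (j.1.okG e)⟩
  have h : j.1 ≤ k.1 := ⟨hk.1, hk.2.1, hk.2.2.1, hk.2.2.2.1, (Finset.subset_insert _ _).trans hk.2.2.2.2⟩
  refine ⟨k, h, qmk_eq_zero.2 (Ideal.subset_span (Or.inr (Or.inl ?_)))⟩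
  show rename Subtype.val (rename _ p) ∈ k.1.G
  rw [rename_rename]
  exact hk.2.2.2.2 (Finset.mem_insert_self _ _)

variable (f i hi)

theorem nonempty_isColimit_cB : Nonempty (IsColimit (Cocone.mk _ (cB f i hi))) := by
  refine nonempty_isColimit_under R _ _ (fun (b : B) => ?_) fun j (y : j.1.QB) hy => ?_
  · obtain ⟨j⟩ := (inferInstance : Nonempty (Ix f i hi))
    obtain ⟨k, y, z, -, hy, -⟩ := exists_reach j b 0
    exact ⟨k, y, hy⟩
  · obtain ⟨k, h, hk⟩ := exists_killB (j := j) (y := y) hy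
    exact ⟨k, homOfLE h, hk⟩

theorem nonempty_isColimit_cD' : Nonempty (IsColimit (Cocone.mk _ (cD' f i hi))) := by
  refine nonempty_isColimit_under R _ _ (fun (d : D') => ?_) fun j (y : j.1.QD') hy => ?_
  · obtain ⟨j⟩ := (inferInstance : Nonempty (Ix f i hi))
    obtain ⟨k, y, z, -, -, hz⟩ := exists_reach j 0 d
    exact ⟨k, z, hz⟩
  · obtain ⟨k, h, hk⟩ := exists_killD' (j := j) (y := y) hy
    exact ⟨k, homOfLE h, hk⟩

theorem nonempty_isColimit_cD : Nonempty (IsColimit (Cocone.mk _ (cD f i hi))) := by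
  refine nonempty_isColimit_under R _ _ (fun (d : D) => ?_) fun j (y : j.1.QD) hy => ?_
  · obtain ⟨d, rfl⟩ := hi d
    obtain ⟨j⟩ := (inferInstance : Nonempty (Ix f i hi))
    obtain ⟨k, y, z, -, -, hz⟩ := exists_reach j 0 d
    exact ⟨k, k.1.ψ z, ((AlgHom.congr_fun k.1.toD_ψ z).trans (congrArg i hz))⟩
  · obtain ⟨k, h, hk⟩ := exists_killD (j := j) (y := y) hy
    exact ⟨k, homOfLE h, hk⟩

/-- the fibre product of the limit -/
def eqzInf : Subalgebra R (B × D') :=
  AlgHom.equalizer (f.comp (AlgHom.fst R _ _)) (i.comp (AlgHom.snd R _ _))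

/-- to the fibre product of the limit -/
def Idx.toP (j : Idx f i hi) : j.eqz →ₐ[R] eqzInf f i :=
  ((j.toB.comp (AlgHom.fst R _ _)).prod (j.toD'.comp (AlgHom.snd R _ _)) |>.comp j.eqz.val).codRestrict
    (eqzInf f i) fun z => by
      show f (j.toB z.1.1) = i (j.toD' z.1.2)
      have e1 := AlgHom.congr_fun j.toD_φ z.1.1
      have e2 := AlgHom.congr_fun j.toD_ψ z.1.2
      simp only [AlgHom.comp_apply] at e1 e2
      rw [← e1, ← e2, Idx.mem_eqz.1 z.2]

variable {P : Type u} [CommRing P] [Algebra R P] (e : eqzInf f i ≃ₐ[R] P)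

/-- cocone -/
def cP : DP f i hi ⟶ (Functor.const _).obj (CommRingCat.mkUnder (CommRingCat.of R) P) where
  app j := (e.toAlgHom.comp (j.1.toP f i hi)).toUnder
  naturality j k g := by
    ext a
    exact congrArg e (Subtype.ext (Prod.ext (AlgHom.congr_fun (Idx.toB_nat (leOfHom g : j.1 ≤ k.1)) a.1.1)
      (AlgHom.congr_fun (Idx.toD'_nat (leOfHom g : j.1 ≤ k.1)) a.1.2)))

theorem nonempty_isColimit_cP : Nonempty (IsColimit (Cocone.mk _ (cP f i hi e))) := by
  refine nonempty_isColimit_under R _ _ (fun (x : P) => ?_) fun j (w : j.1.eqz) hw => ?_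
  · obtain ⟨j⟩ := (inferInstance : Nonempty (Ix f i hi))
    obtain ⟨k, y, z, -, hy, hz⟩ := exists_reach j (e.symm x).1.1 (e.symm x).1.2
    have h0 : k.1.toD (k.1.φ y - k.1.ψ z) = 0 := by
      have e1 := AlgHom.congr_fun k.1.toD_φ y
      have e2 := AlgHom.congr_fun k.1.toD_ψ z
      simp only [AlgHom.comp_apply] at e1 e2
      rw [map_sub, e1, e2, hy, hz, sub_eq_zero]
      exact (e.symm x).2
    obtain ⟨l, h, hl⟩ := exists_killD h0
    have hm : l.1.φ (Idx.transB h y) = l.1.ψ (Idx.transD' h z) := by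
      have e1 := AlgHom.congr_fun (Idx.φ_nat h) y
      have e2 := AlgHom.congr_fun (Idx.ψ_nat h) z
      simp only [AlgHom.comp_apply] at e1 e2
      rwa [map_sub, sub_eq_zero, ← e1, ← e2] at hl
    refine ⟨l, (⟨(Idx.transB h y, Idx.transD' h z), hm⟩ : l.1.eqz), ?_⟩
    show e (l.1.toP f i hi _) = x
    rw [← e.eq_symm_apply]
    exact Subtype.ext (Prod.ext ((AlgHom.congr_fun (Idx.toB_nat h) y).trans hy)
      ((AlgHom.congr_fun (Idx.toD'_nat h) z).trans hz))
  · have hw' : j.1.toP f i hi w = 0 := e.injective (hw.trans (map_zero e).symm)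
    obtain ⟨k, h, hk⟩ := exists_killB (y := w.1.1) (congrArg (fun t : eqzInf f i => t.1.1) hw')
    have h2 : k.1.toD' (Idx.transD' h w.1.2) = 0 :=
      (AlgHom.congr_fun (Idx.toD'_nat h) w.1.2).trans (congrArg (fun t : eqzInf f i => t.1.2) hw')
    obtain ⟨l, h', hl⟩ := exists_killD' h2
    refine ⟨l, homOfLE (h.trans h'), Subtype.ext (Prod.ext ?_ ?_)⟩
    · refine (AlgHom.congr_fun (Idx.transB_trans h h') w.1.1).trans ?_
      rw [AlgHom.comp_apply, hk, map_zero]
      rfl
    · exact (AlgHom.congr_fun (Idx.transD'_trans h h') w.1.2).trans hl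

theorem isPullback_π (j : Ix f i hi) :
    IsPullback ((π₁ f i hi).app j).right ((π₂ f i hi).app j).right ((φD f i hi).app j).right
      ((ψD f i hi).app j).right := by
  refine IsPullback.of_isLimit' ⟨CommRingCat.hom_ext (RingHom.ext fun z => z.2)⟩ (PullbackCone.IsLimit.mk _
    (fun s => CommRingCat.ofHom ((s.fst.hom.prod s.snd.hom).codRestrict j.1.eqz fun x =>
      congr_arg (fun g : s.pt ⟶ _ => g.hom x) s.condition))
    (fun s => rfl) (fun s => rfl) fun s m h1 h2 => ?_)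
  refine CommRingCat.hom_ext (RingHom.ext fun x => Subtype.ext (Prod.ext ?_ ?_))
  · exact congr_arg (fun g : s.pt ⟶ _ => g.hom x) h1
  · exact congr_arg (fun g : s.pt ⟶ _ => g.hom x) h2

end Groth.Agent.ColimNilPair
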